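import Cfsg.Agent.J4PGL.Cent
import Cfsg.Agent.J4Local.Eleven.Main
import Cfsg.Agent.J4Local.SylowThreeMain
import Cfsg.Agent.S5563
import Cfsg.Agent.S5564
import Cfsg.Agent.S5572

/-!
The projective general linear group of the line over 23 points in a group of Janko-four type, from the
order of the group and the statements about its local subgroups.
-/

set_option autoImplicit false
set_option maxRecDepth 100000
set_option linter.style.haveILetI false
set_option linter.unusedSectionVars false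

namespace CfsgLib.J4PGL

open Cfsg CfsgLib.J4Eleven CfsgLib.J4Local CfsgLib.J4Local.M22Elem Subgroup

variable {G : Type*} [Group G] [Finite G] [IsSimpleGroup G]

theorem not_eleven_cent {z : G} {p : ℕ} [Fact p.Prime] (hp2 : ¬ p ^ 2 ∣ Nat.card G)
    (hpH : p ∣ Nat.card (centralizer ({z} : Set G)))
    (hN : ∀ Q : Subgroup G, Nat.card Q = p → Q ≤ centralizer ({z} : Set G) →
      ¬ 11 ∣ Nat.card (normalizer (Q : Set G)))
    {f : G} (hf : orderOf f = p) : ¬ 11 ∣ Nat.card (centralizer ({f} : Set G)) := by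
  intro h
  obtain ⟨x, hx⟩ := exists_prime_orderOf_dvd_card' (G := centralizer ({z} : Set G)) p hpH
  set Q : Subgroup G := zpowers (x : G)
  have hQ : Nat.card Q = p := by rw [Nat.card_zpowers, Subgroup.orderOf_coe, hx]
  have hQz : Q ≤ centralizer ({z} : Set G) := zpowers_le.2 x.2
  have hfac : (Nat.card G).factorization p = 1 := by
    have h1 : 1 ≤ (Nat.card G).factorization p := (Fact.out : p.Prime).factorization_pos_of_dvd
      Nat.card_pos.ne' (hQ ▸ card_subgroup_dvd_card Q)
    have h2 : ¬ 2 ≤ (Nat.card G).factorization p := fun h =>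
      hp2 (((Fact.out : p.Prime).pow_dvd_iff_le_factorization Nat.card_pos.ne').2 h)
    omega
  let SQ : Sylow p G := Sylow.ofCard Q (by rw [hQ, hfac, pow_one])
  let SF : Sylow p G := Sylow.ofCard (zpowers f) (by rw [Nat.card_zpowers, hf, hfac, pow_one])
  obtain ⟨g, hg⟩ := MulAction.exists_smul_eq G SF SQ
  refine hN Q hQ hQz (h.trans ?_)
  rw [Nat.card_congr ((centralizer ({f} : Set G)).equivMapOfInjective (MulAut.conj g).toMonoidHom (MulAut.conj g).injective).toEquiv]
  refine card_dvd_of_le ?_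
  rintro _ ⟨c, hc, rfl⟩
  refine centralizer_le_normalizer _ (mem_centralizer_iff.2 fun y hy => ?_)
  have hQg : Q = (zpowers f).map (MulAut.conj g).toMonoidHom := (congrArg (fun S : Sylow p G => (S : Subgroup G)) hg).symm
  rw [SetLike.mem_coe, hQg] at hy
  obtain ⟨w, hw, rfl⟩ := hy
  obtain ⟨k, rfl⟩ := mem_zpowers_iff.1 hw
  rw [← map_mul, ← map_mul]
  exact congrArg _ ((show Commute c f from mem_centralizer_singleton_iff.1 hc).zpow_right k).eq.symm

/-- **The subgroup, from the order of the group and its local structure.** -/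
theorem exists_pgl_of (hG : ¬ IsMulCommutative G) (hJ : IsOfJankoFourType G)
    (hcard : Nat.card G = 86775571046077562880)
    (hsplit : ∀ V : Subgroup G, Cfsg.IsElementaryAbelian 2 V → Nat.card ↥V = 2 ^ 11 →
      Subgroup.centralizer (V : Set G) ≤ V ∧ ∃ K : Subgroup G, K ≤ Subgroup.normalizer (V : Set G) ∧ K ⊓ V = ⊥ ∧
        K ⊔ V = Subgroup.normalizer (V : Set G) ∧ Cfsg.Spor.IsoM24 ↥K)
    (hseven : ∀ z : G, IsOfJankoFourTypeAt z → ∀ S : Subgroup G, Nat.card S = 7 →
      S ≤ centralizer ({z} : Set G) → Nat.card ↥(normalizer (S : Set G)) = 2 ^ 3 * 3 ^ 2 * 5 * 7)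
    (heleven : ∀ U : Sylow 11 G, Cfsg.IsExtraspecial 11 ↥(U : Subgroup G) ∧
      Nat.card (normalizer ((U : Subgroup G) : Set G)) = 2 ^ 4 * 3 * 5 * 11 ^ 3)
    (hbig : ∀ p ∈ [23, 29, 31, 37, 43], ∀ [Fact p.Prime], ∀ U : Sylow p G,
      centralizer ((U : Subgroup G) : Set G) = (U : Subgroup G))
    (h23 : ∀ [Fact (Nat.Prime 23)], ∀ U : Sylow 23 G,
      Nat.card ↥(normalizer ((U : Subgroup G) : Set G)) = 23 * 22) :
    ∃ K : Subgroup G, Nonempty (↥K ≃* GL (Fin 2) (ZMod 23) ⧸ Subgroup.center (GL (Fin 2) (ZMod 23))) := by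
  obtain ⟨z, P, hJz⟩ := hJ
  have hord : Nat.card G = 2 ^ 21 * 3 ^ 3 * 5 * 7 * 11 ^ 3 * 23 * 29 * 31 * 37 * 43 := by
    rw [hcard]; norm_num
  obtain ⟨C, hloc⟩ := conf_std hJz hG
  set V := vZero hJz subA
  obtain ⟨φ, d, L⟩ := C.exists_labels
  obtain ⟨-, K, hKN, hKV, hKVs, -⟩ := hsplit V (elementary_vZero hJz hexad.first) C.card
  -- the section
  have hbij : Function.Bijective (φ.comp (Subgroup.inclusion hKN)) := by
    refine ⟨(injective_iff_map_eq_one _).2 fun x hx => ?_, fun g => ?_⟩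
    · have hV : (x : G) ∈ V := (L.ker _).1 hx
      exact Subtype.ext (mem_bot.1 (hKV ▸ ⟨x.2, hV⟩ : (x : G) ∈ (⊥ : Subgroup G)))
    · obtain ⟨m, rfl⟩ := L.surj g
      have hm : (m : G) ∈ K ⊔ V := hKVs.symm ▸ m.2
      rw [sup_eq_closure] at hm
      have key : ∀ y, y ∈ closure ((K : Set G) ∪ V) →
          ∃ hy : y ∈ normalizer (V : Set G), φ ⟨y, hy⟩ ∈ (φ.comp (Subgroup.inclusion hKN)).range := by
        intro y hy
        induction hy using closure_induction with
        | mem y hy =>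
          rcases hy with hy | hy
          · exact ⟨hKN hy, ⟨⟨y, hy⟩, rfl⟩⟩
          · exact ⟨le_normalizer hy, by rw [(L.ker ⟨y, le_normalizer hy⟩).2 hy]; exact one_mem _⟩
        | one => exact ⟨one_mem _, by rw [show (⟨1, one_mem _⟩ : normalizer (V : Set G)) = 1 from rfl, map_one]; exact one_mem _⟩
        | mul a b _ _ ha hb =>
          obtain ⟨ha, ha'⟩ := ha
          obtain ⟨hb, hb'⟩ := hb
          refine ⟨mul_mem ha hb, ?_⟩
          rw [show (⟨a * b, mul_mem ha hb⟩ : normalizer (V : Set G)) = ⟨a, ha⟩ * ⟨b, hb⟩ from rfl, map_mul]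
          exact mul_mem ha' hb'
        | inv a _ ha =>
          obtain ⟨ha, ha'⟩ := ha
          refine ⟨inv_mem ha, ?_⟩
          rw [show (⟨a⁻¹, inv_mem ha⟩ : normalizer (V : Set G)) = ⟨a, ha⟩⁻¹ from rfl, map_inv]
          exact inv_mem ha'
      obtain ⟨_, h⟩ := key m hm
      exact MonoidHom.mem_range.1 h
  let e := MulEquiv.ofBijective _ hbij
  let ι : M24 →* G := K.subtype.comp e.symm.toMonoidHom
  have hιN : ∀ g, ι g ∈ normalizer (V : Set G) := fun g => hKN (e.symm g).2
  have hφ : ∀ g, φ ⟨ι g, hιN g⟩ = g := fun g => e.apply_symm_apply g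
  have sylow : ∀ p ∈ [23, 29, 31, 37, 43], ∀ x : G, orderOf x = p →
      ∀ [Fact p.Prime], ∃ U : Sylow p G, (U : Subgroup G) = zpowers x := by
    intro p hp x hx _
    refine ⟨Sylow.ofCard (zpowers x) ?_, rfl⟩
    rw [Nat.card_zpowers, hx]
    have h1 : 1 ≤ (Nat.card G).factorization p := (Fact.out : p.Prime).factorization_pos_of_dvd
      Nat.card_pos.ne' (hx ▸ orderOf_dvd_natCard x)
    have h2 : ¬ 2 ≤ (Nat.card G).factorization p := fun h => by
      have := ((Fact.out : p.Prime).pow_dvd_iff_le_factorization Nat.card_pos.ne').2 h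
      rw [hcard] at this
      simp only [List.mem_cons, List.not_mem_nil, or_false] at hp
      rcases hp with rfl | rfl | rfl | rfl | rfl <;> norm_num at this
    rw [show (Nat.card G).factorization p = 1 by omega, pow_one]
  have hprime : ∀ p ∈ [23, 29, 31, 37, 43], p.Prime := by
    intro p hp
    simp only [List.mem_cons, List.not_mem_nil, or_false] at hp
    rcases hp with rfl | rfl | rfl | rfl | rfl <;> norm_num
  refine main C L ι hιN hφ (fun s hs => ?_) ?_
  · haveI : Fact (Nat.Prime 23) := ⟨by norm_num⟩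
    obtain ⟨U, hU⟩ := sylow 23 (by simp) s hs
    refine ⟨?_, ?_⟩
    · rw [← hU]; exact hbig 23 (by simp) U
    · rw [← hU]; exact h23 U
  · obtain ⟨hperf, -, -, -, hNP⟩ := Cfsg.Agent.S5563.result hG z P hJz
    refine card_cent C L ι hιN hφ (fun t ht => L.centralizer_le C hloc ht) hord
      hJz.2.2.2.2.2.1 hNP (Cfsg.Agent.S5564.result hG ⟨z, P, hJz⟩) (fun f hf => ?_) (fun x hx => ?_) heleven
    · have hH := CfsgLib.J4Three.card_centralizer hJz
      rcases hf with hf | hf
      · haveI : Fact (Nat.Prime 5) := ⟨by norm_num⟩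
        refine not_eleven_cent (z := z) ?_ (by rw [hH]; norm_num) (fun Q hQ hQz h => ?_) hf
        · rw [hcard]; norm_num
        · rw [(Cfsg.Agent.S5572.result hG z ⟨P, hJz⟩ Q hQ hQz).2.2.2] at h
          norm_num at h
      · haveI : Fact (Nat.Prime 7) := ⟨by norm_num⟩
        refine not_eleven_cent (z := z) ?_ (by rw [hH]; norm_num) (fun Q hQ hQz h => ?_) hf
        · rw [hcard]; norm_num
        · rw [hseven z ⟨P, hJz⟩ Q hQ hQz] at h
          norm_num at h
    · haveI : Fact (orderOf x).Prime := ⟨hprime _ hx⟩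
      obtain ⟨U, hU⟩ := sylow _ hx x rfl
      rw [← hU]; exact hbig _ hx U

end CfsgLib.J4PGL
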