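import Cfsg.Agent.J4PGL.Main

/-!
The centraliser of an element of order eleven of the complement has order dividing 242.
-/

set_option autoImplicit false
set_option maxRecDepth 100000
set_option linter.style.haveILetI false
set_option linter.unusedSectionVars false

namespace CfsgLib.J4PGL

open Cfsg CfsgLib.J4Eleven Subgroup

attribute [local instance] Classical.propDecidable

local instance fact11'' : Fact (Nat.Prime 11) := ⟨by norm_num⟩

variable {G : Type*} [Group G] [Finite G] {z : G} {P V : Subgroup G}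
  {φ : ↥(normalizer (V : Set G)) →* M24} {d : GolayPt → GolayPt → G}
  (C : Conf z V) (L : Labels z V φ d)
  (ι : M24 →* G) (hιN : ∀ g, ι g ∈ normalizer (V : Set G)) (hφ : ∀ g, φ ⟨ι g, hιN g⟩ = g)

include C L hφ

theorem orderOf_a : orderOf (ι dbl24) = 11 := by
  have hι : Function.Injective ι := fun g h e => by
    rw [← hφ g, ← hφ h]; exact congrArg φ (Subtype.ext e)
  rw [orderOf_injective ι hι, orderOf_dbl24]

theorem duad_comm : d none (some 0) * ι dbl24 = ι dbl24 * d none (some 0) := by
  have h := L.equiv ⟨ι dbl24, hιN _⟩ none (some 0)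
  rw [hφ, show ((dbl24 : M24) : Equiv.Perm GolayPt) none = none from rfl,
    show ((dbl24 : M24) : Equiv.Perm GolayPt) (some 0) = some 0 from by decide +kernel] at h
  exact (mul_inv_eq_iff_eq_mul.1 h.symm).symm

/-- The fixed points in `V`. -/
theorem card_fix : Nat.card (V ⊓ centralizer ({ι dbl24} : Set G) : Subgroup G) = 2 := by
  set a := ι dbl24 with ha_def
  have ha : orderOf a = 11 := orderOf_a C L ι hιN hφ
  letI act : MulAction (zpowers a) V := MulAction.compHom V
    ((Subgroup.normalizerMonoidHom V).comp (Subgroup.inclusion (zpowers_le.2 (hιN dbl24))))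
  have hp : IsPGroup 11 (zpowers a) := IsPGroup.of_card (n := 1) (by rw [Nat.card_zpowers, ha, pow_one])
  have hmod := hp.card_modEq_card_fixedPoints V
  have hsm : ∀ (q : zpowers a) (x : V), ((q • x : V) : G) = (q : G) * x * (q : G)⁻¹ := fun q x => rfl
  have hfx : Nat.card (MulAction.fixedPoints (zpowers a) V) =
      Nat.card (V ⊓ centralizer ({a} : Set G) : Subgroup G) := by
    refine Nat.card_congr
      { toFun := fun x => ⟨x.1.1, x.1.2, mem_centralizer_singleton_iff.2 (mul_inv_eq_iff_eq_mul.1
          ((hsm ⟨a, mem_zpowers a⟩ x.1).symm.trans (congrArg Subtype.val (x.2 ⟨a, mem_zpowers a⟩)))).symm⟩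
        invFun := fun x => ⟨⟨x.1, x.2.1⟩, fun q => Subtype.ext (by
          rw [hsm]
          obtain ⟨k, hk⟩ := mem_zpowers_iff.1 q.2
          rw [← hk, mul_inv_eq_iff_eq_mul]
          exact ((show Commute (x : G) a from mem_centralizer_singleton_iff.1 x.2.2).zpow_right k).eq.symm)⟩
        left_inv := fun x => rfl
        right_inv := fun x => rfl }
  set F : Subgroup G := V ⊓ centralizer ({a} : Set G)
  rw [hfx, C.card] at hmod
  obtain ⟨k, hk, e⟩ := (Nat.dvd_prime_pow Nat.prime_two).1 (C.card ▸ card_dvd_of_le (inf_le_left : F ≤ V))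
  have hk10 : k ≠ 11 := fun h => by
    subst h
    have hFV : F = V := Subgroup.eq_of_le_of_card_ge inf_le_left (by rw [e, C.card])
    have haV : a ∈ V := C.cent (mem_centralizer_iff.2 fun x hx => by
      have := (hFV.ge hx).2
      exact mem_centralizer_singleton_iff.1 this)
    have := orderOf_dvd_of_pow_eq_one (show a ^ 2 = 1 by rw [pow_two]; exact C.sq a haV)
    rw [ha] at this
    norm_num at this
  rw [e] at hmod ⊢
  change 2 ^ 11 % 11 = 2 ^ k % 11 at hmod
  interval_cases k <;> first | omega | (norm_num at hmod hk10 ⊢)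

theorem mem_fix {x : G} (hx : x ∈ V) (hxa : x * ι dbl24 = ι dbl24 * x) : x = 1 ∨ x = d none (some 0) := by
  haveI : Fintype G := Fintype.ofFinite G
  by_contra hne
  push Not at hne
  set F : Subgroup G := V ⊓ centralizer ({ι dbl24} : Set G)
  have h2 : Nat.card F = 2 := card_fix C L ι hιN hφ
  have hv : d none (some 0) ≠ 1 := (mem_nS.1 (L.mem _ _ (by simp))).2.1
  have hs : ({1, d none (some 0), x} : Finset G) ⊆ elems F := by
    intro y hy
    simp only [Finset.mem_insert, Finset.mem_singleton] at hy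
    rw [mem_elems]
    rcases hy with rfl | rfl | rfl
    · exact one_mem _
    · exact ⟨L.memV C _ _, mem_centralizer_singleton_iff.2 (duad_comm C L ι hιN hφ)⟩
    · exact ⟨hx, mem_centralizer_singleton_iff.2 hxa⟩
  have := Finset.card_le_card hs
  rw [card_elems, h2, Finset.card_insert_of_notMem (by simp [Ne.symm hv, Ne.symm hne.1]),
    Finset.card_insert_of_notMem (by simp [Ne.symm hne.2]), Finset.card_singleton] at this
  omega

/-- The joint centraliser of the element and the duad. -/
theorem joint (hct : ∀ t ∈ nS z V, centralizer ({t} : Set G) ≤ normalizer (V : Set G)) {x : G}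
    (hxa : x * ι dbl24 = ι dbl24 * x) (hxv : x * d none (some 0) = d none (some 0) * x) :
    ∃ (i : ℤ) (f : G), (f = 1 ∨ f = d none (some 0)) ∧ x = ι dbl24 ^ i * f := by
  have hne : (none : GolayPt) ≠ some 0 := by simp
  have hxN : x ∈ normalizer (V : Set G) := hct _ (L.mem _ _ hne) (mem_centralizer_singleton_iff.2 hxv)
  obtain ⟨i, hi⟩ : ∃ i : ℤ, dbl24 ^ i = φ ⟨x, hxN⟩ := by
    refine mem_zpowers_iff.1 (cent_dbl ?_ ((L.stab_pair C hne (m := ⟨x, hxN⟩) hxv).imp And.left And.left))
    have h := congrArg φ (show (⟨x, hxN⟩ : normalizer (V : Set G)) * ⟨ι dbl24, hιN _⟩ = ⟨ι dbl24, hιN _⟩ * ⟨x, hxN⟩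
      from Subtype.ext hxa)
    rwa [map_mul, map_mul, hφ] at h
  refine ⟨i, (ι dbl24 ^ i)⁻¹ * x, mem_fix C L ι hιN hφ ?_ ?_, by rw [mul_inv_cancel_left]⟩
  · have h : φ (((⟨ι dbl24, hιN _⟩ : normalizer (V : Set G)) ^ i)⁻¹ * ⟨x, hxN⟩) = 1 := by
      rw [map_mul, map_inv, map_zpow, hφ, hi, inv_mul_cancel]
    have h' := (L.ker _).1 h
    rwa [Subgroup.coe_mul, InvMemClass.coe_inv, SubgroupClass.coe_zpow] at h'
  · exact (((Commute.refl (ι dbl24)).zpow_left i).inv_left.mul_left hxa).eq

/-- The Sylow 2-subgroups of the centraliser have order two. -/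
theorem sylow_two_le (hct : ∀ t ∈ nS z V, centralizer ({t} : Set G) ≤ normalizer (V : Set G))
    (T : Sylow 2 (centralizer ({ι dbl24} : Set G) : Subgroup G))
    (hvT : (⟨d none (some 0), mem_centralizer_singleton_iff.2 (duad_comm C L ι hιN hφ)⟩ :
      (centralizer ({ι dbl24} : Set G) : Subgroup G)) ∈ T) :
    ∀ g ∈ T, (g : G) = 1 ∨ (g : G) = d none (some 0) := by
  haveI : Fact (Nat.Prime 2) := ⟨Nat.prime_two⟩
  set v := d none (some 0) with hv
  set vT : (T : Subgroup (centralizer ({ι dbl24} : Set G) : Subgroup G)) := ⟨_, hvT⟩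
  have hsq : v * v = 1 := C.sq v (L.memV C _ _)
  have hone : ∀ u ∈ zpowers vT, u = 1 ∨ u = vT := by
    intro u hu
    obtain ⟨k, rfl⟩ := mem_zpowers_iff.1 hu
    have h2 : vT ^ (2 : ℤ) = 1 := by
      rw [zpow_two]; exact Subtype.ext (Subtype.ext hsq)
    rcases Int.even_or_odd k with ⟨m, rfl⟩ | ⟨m, rfl⟩
    · exact Or.inl (by rw [← two_mul, zpow_mul, h2, one_zpow])
    · exact Or.inr (by rw [zpow_add, zpow_mul, h2, one_zpow, one_mul, zpow_one])
  suffices htop : zpowers vT = ⊤ by
    intro g hg
    rcases hone ⟨g, hg⟩ (htop ▸ mem_top _) with h | h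
    · exact Or.inl (by simpa using congrArg (fun u => (((u : (T : Subgroup (centralizer ({ι dbl24} : Set G) : Subgroup G))) : (centralizer ({ι dbl24} : Set G) : Subgroup G)) : G)) h)
    · exact Or.inr (congrArg (fun u => (((u : (T : Subgroup (centralizer ({ι dbl24} : Set G) : Subgroup G))) : (centralizer ({ι dbl24} : Set G) : Subgroup G)) : G)) h)
  by_contra hne
  haveI : Group.IsNilpotent (T : Subgroup (centralizer ({ι dbl24} : Set G) : Subgroup G)) := T.2.isNilpotent
  obtain ⟨n, hnN, hnv⟩ := SetLike.exists_of_lt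
    (Group.normalizerCondition_of_isNilpotent _ (lt_top_iff_ne_top.2 hne) :
      zpowers vT < normalizer (zpowers vT : Set (T : Subgroup (centralizer ({ι dbl24} : Set G) : Subgroup G))))
  have hnv' : n * vT * n⁻¹ = vT := by
    rcases hone _ ((mem_normalizer_iff.1 hnN vT).1 (mem_zpowers _)) with h | h
    · exact absurd (conj_eq_one_iff.1 h) fun e =>
        (mem_nS.1 (L.mem none (some 0) (by simp))).2.1 (congrArg (fun u => ((u : (centralizer ({ι dbl24} : Set G) : Subgroup G)) : G)) (congrArg Subtype.val e))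
    · exact h
  set ng : G := ((n : (centralizer ({ι dbl24} : Set G) : Subgroup G)) : G) with hng
  have hxv : ng * v = v * ng := by
    have h := congrArg (fun u => (((u : (T : Subgroup (centralizer ({ι dbl24} : Set G) : Subgroup G))) : (centralizer ({ι dbl24} : Set G) : Subgroup G)) : G))
      (mul_inv_eq_iff_eq_mul.1 hnv')
    exact h
  obtain ⟨i, f, hf, hx⟩ := joint C L ι hιN hφ hct (mem_centralizer_singleton_iff.1 n.1.2) hxv
  obtain ⟨k, hk⟩ := T.2 n
  have hcf : Commute (ι dbl24 ^ i) f := by
    rcases hf with rfl | rfl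
    · exact Commute.one_right _
    · exact (show Commute (ι dbl24) v from (duad_comm C L ι hιN hφ).symm).zpow_left i
  have hf2 : f ^ 2 = 1 := by
    rcases hf with rfl | rfl
    · exact one_pow 2
    · rw [pow_two]; exact hsq
  have hai : ι dbl24 ^ i = 1 := by
    have h1 : (ι dbl24 ^ i) ^ (2 ^ (k + 1)) = 1 := by
      have h2 : ng ^ (2 ^ (k + 1)) = 1 := by
        have : n ^ (2 ^ (k + 1)) = 1 := by rw [pow_succ, pow_mul, hk, one_pow]
        exact congrArg (fun u => (((u : (T : Subgroup (centralizer ({ι dbl24} : Set G) : Subgroup G))) : (centralizer ({ι dbl24} : Set G) : Subgroup G)) : G)) this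
      rw [show ng = ι dbl24 ^ i * f from hx, hcf.mul_pow, show f ^ (2 ^ (k + 1)) = 1 by rw [pow_succ', pow_mul, hf2, one_pow], mul_one] at h2
      exact h2
    refine orderOf_eq_one_iff.1 (Nat.eq_one_of_dvd_coprimes
      (Nat.Coprime.pow_left (k + 1) (by norm_num : Nat.Coprime 2 11)) (orderOf_dvd_of_pow_eq_one h1) ?_)
    refine orderOf_dvd_of_pow_eq_one ?_
    rw [← zpow_natCast, ← zpow_mul, mul_comm, zpow_mul, zpow_natCast, ← orderOf_a C L ι hιN hφ,
      pow_orderOf_eq_one, one_zpow]
  rw [hai, one_mul] at hx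
  refine hnv ?_
  rcases hf with rfl | rfl
  · rw [show n = 1 from Subtype.ext (Subtype.ext hx)]; exact one_mem _
  · rw [show n = vT from Subtype.ext (Subtype.ext hx)]; exact mem_zpowers _

/-- **The order of the centraliser.** -/
theorem card_cent (hct : ∀ t ∈ nS z V, centralizer ({t} : Set G) ≤ normalizer (V : Set G))
    (hG : Nat.card G = 2 ^ 21 * 3 ^ 3 * 5 * 7 * 11 ^ 3 * 23 * 29 * 31 * 37 * 43)
    (hP : Nat.card P = 3) (hPz : normalizer (P : Set G) ≤ centralizer ({z} : Set G))
    (h3 : ∀ x y : G, orderOf x = 3 → orderOf y = 3 → IsConj x y)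
    (h57 : ∀ f : G, orderOf f = 5 ∨ orderOf f = 7 → ¬ 11 ∣ Nat.card (centralizer ({f} : Set G)))
    (hbig : ∀ x : G, orderOf x ∈ [23, 29, 31, 37, 43] → centralizer (zpowers x : Set G) = zpowers x)
    (h11 : ∀ U : Sylow 11 G, Cfsg.IsExtraspecial 11 ↥(U : Subgroup G) ∧
      Nat.card (normalizer ((U : Subgroup G) : Set G)) = 2 ^ 4 * 3 * 5 * 11 ^ 3) :
    Nat.card (centralizer ({ι dbl24} : Set G)) ∣ 242 := by
  haveI : Fact (Nat.Prime 2) := ⟨Nat.prime_two⟩
  haveI : Fact (Nat.Prime 3) := ⟨Nat.prime_three⟩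
  set a := ι dbl24 with ha_def
  set CA : Subgroup G := centralizer ({a} : Set G)
  set v := d none (some 0)
  have ha : orderOf a = 11 := orderOf_a C L ι hιN hφ
  have hvS : v ∈ nS z V := L.mem _ _ (by simp)
  set vC : CA := ⟨v, mem_centralizer_singleton_iff.2 (duad_comm C L ι hιN hφ)⟩
  obtain ⟨T, hT⟩ := (IsPGroup.of_card (p := 2) (n := 1) (G := zpowers vC) (by
    rw [Nat.card_zpowers, pow_one]
    exact orderOf_eq_prime (Subtype.ext (by rw [pow_two]; exact C.sq v (L.memV C _ _)))
      fun e => (mem_nS.1 hvS).2.1 (congrArg Subtype.val e))).exists_le_sylow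
  have hTmem := sylow_two_le C L ι hιN hφ hct T (hT (mem_zpowers _))
  -- no conjugate of `z` centralises `a`
  have hnz : ∀ u : G, u * a = a * u → ¬ IsConj z u := by
    intro u hua hz
    have hz2 : z * z = 1 := C.sq z C.z_mem
    obtain ⟨c, hc⟩ := isConj_iff.1 hz
    have hu2 : u * u = 1 := by rw [← hc, _root_.conj_mul, hz2]; group
    set uC : CA := ⟨u, mem_centralizer_singleton_iff.2 hua⟩
    have hp : IsPGroup 2 (zpowers uC) := by
      intro x
      refine ⟨1, ?_⟩
      obtain ⟨k, hk⟩ := mem_zpowers_iff.1 x.2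
      refine Subtype.ext ?_
      rw [SubmonoidClass.coe_pow, ← hk, pow_one, pow_two, ← (Commute.refl uC).mul_zpow,
        show uC * uC = 1 from Subtype.ext hu2, one_zpow]
      rfl
    obtain ⟨Q, hQ⟩ := hp.exists_le_sylow
    obtain ⟨h, hh⟩ := MulAction.exists_smul_eq CA Q T
    have hm : h * uC * h⁻¹ ∈ (T : Subgroup CA) := by
      rw [← hh]; exact ⟨uC, hQ (mem_zpowers _), rfl⟩
    rcases hTmem _ hm with e | e
    · have : u = 1 := conj_eq_one_iff.1 (show (h : G) * u * (h : G)⁻¹ = 1 from e)
      exact C.z_ne (by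
        rw [this] at hc
        exact conj_eq_one_iff.1 hc)
    · exact (mem_nS.1 hvS).2.2 (hz.trans (isConj_iff.2 ⟨(h : G), e⟩))
  have h22 : Nat.card CA ≠ 0 := Nat.card_pos.ne'
  have hdG : Nat.card CA ∣ 2 ^ 21 * 3 ^ 3 * 5 * 7 * 11 ^ 3 * 23 * 29 * 31 * 37 * 43 :=
    hG ▸ card_subgroup_dvd_card CA
  -- prime divisors
  have hprime : ∀ q : ℕ, q.Prime → q ∣ Nat.card CA → q = 2 ∨ q = 11 := by
    intro q hq hd
    haveI : Fact q.Prime := ⟨hq⟩
    obtain ⟨x, hx⟩ := exists_prime_orderOf_dvd_card' (G := CA) q hd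
    have hxo : orderOf (x : G) = q := by rw [Subgroup.orderOf_coe, hx]
    have hxa : (x : G) * a = a * x := mem_centralizer_singleton_iff.1 x.2
    have hadvd : 11 ∣ Nat.card (centralizer ({(x : G)} : Set G)) := by
      have := Subgroup.orderOf_dvd_natCard (centralizer ({(x : G)} : Set G))
        (mem_centralizer_singleton_iff.2 hxa.symm : a ∈ _)
      rwa [ha] at this
    by_contra hne
    push Not at hne
    by_cases hq3 : q = 3
    · subst hq3
      obtain ⟨p, hp⟩ := exists_prime_orderOf_dvd_card' (G := P) 3 (by rw [hP])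
      have hp' : orderOf (p : G) = 3 := by rw [Subgroup.orderOf_coe, hp]
      obtain ⟨g, hg⟩ := isConj_iff.1 (h3 (x : G) p hxo hp')
      have hmem : g * a * g⁻¹ ∈ centralizer ({z} : Set G) := by
        refine hPz (centralizer_le_normalizer _ (mem_centralizer_iff.2 fun y hy => ?_))
        have htop : zpowers p = ⊤ := Subgroup.eq_top_of_card_eq _ (by rw [Nat.card_zpowers, hp, hP])
        obtain ⟨k, hk⟩ := mem_zpowers_iff.1 (htop.ge (mem_top (⟨y, hy⟩ : P)))
        have hk' : (p : G) ^ k = y := by simpa using congrArg Subtype.val hk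
        have hcm : Commute (g * a * g⁻¹) (p : G) := by
          show g * a * g⁻¹ * p = p * (g * a * g⁻¹)
          rw [← hg, _root_.conj_mul, _root_.conj_mul, hxa]
        rw [← hk']
        exact (hcm.zpow_right k).eq.symm
      refine hnz (g⁻¹ * z * g) ?_ (isConj_iff.2 ⟨g⁻¹, by rw [inv_inv]⟩)
      have := mem_centralizer_singleton_iff.1 hmem
      calc g⁻¹ * z * g * a = g⁻¹ * (z * (g * a * g⁻¹)) * g := by group
        _ = g⁻¹ * ((g * a * g⁻¹) * z) * g := by rw [this]
        _ = a * (g⁻¹ * z * g) := by group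
    · by_cases hq57 : q = 5 ∨ q = 7
      · rcases hq57 with rfl | rfl
        · exact h57 (x : G) (Or.inl hxo) hadvd
        · exact h57 (x : G) (Or.inr hxo) hadvd
      · have hq' : q ∈ [23, 29, 31, 37, 43] := by
          have h := hd.trans hdG
          simp only [List.mem_cons, List.not_mem_nil, or_false]
          push Not at hq57
          rcases hq.dvd_mul.1 h with h | h
          swap
          · right; right; right; right
            exact (Nat.prime_dvd_prime_iff_eq hq (by norm_num)).1 h
          rcases hq.dvd_mul.1 h with h | h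
          swap
          · right; right; right; left
            exact (Nat.prime_dvd_prime_iff_eq hq (by norm_num)).1 h
          rcases hq.dvd_mul.1 h with h | h
          swap
          · right; right; left
            exact (Nat.prime_dvd_prime_iff_eq hq (by norm_num)).1 h
          rcases hq.dvd_mul.1 h with h | h
          swap
          · right; left
            exact (Nat.prime_dvd_prime_iff_eq hq (by norm_num)).1 h
          rcases hq.dvd_mul.1 h with h | h
          swap
          · left
            exact (Nat.prime_dvd_prime_iff_eq hq (by norm_num)).1 h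
          rcases hq.dvd_mul.1 h with h | h
          swap
          · exact absurd ((Nat.prime_dvd_prime_iff_eq hq (by norm_num)).1 (hq.dvd_of_dvd_pow h)) hne.2
          rcases hq.dvd_mul.1 h with h | h
          swap
          · exact absurd ((Nat.prime_dvd_prime_iff_eq hq (by norm_num)).1 h) hq57.2
          rcases hq.dvd_mul.1 h with h | h
          swap
          · exact absurd ((Nat.prime_dvd_prime_iff_eq hq (by norm_num)).1 h) hq57.1
          rcases hq.dvd_mul.1 h with h | h
          · exact absurd ((Nat.prime_dvd_prime_iff_eq hq (by norm_num)).1 (hq.dvd_of_dvd_pow h)) hne.1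
          · exact absurd ((Nat.prime_dvd_prime_iff_eq hq (by norm_num)).1 (hq.dvd_of_dvd_pow h)) hq3
        have hz := hbig (x : G) (hxo.symm ▸ hq')
        have haz : a ∈ zpowers (x : G) := by
          rw [← hz, mem_centralizer_iff]
          intro y hy
          obtain ⟨k, rfl⟩ := mem_zpowers_iff.1 hy
          exact ((show Commute (x : G) a from hxa).zpow_left k).eq
        have h := Subgroup.orderOf_dvd_natCard (zpowers (x : G)) haz
        rw [ha, Nat.card_zpowers, hxo] at h
        exact hne.2 ((Nat.prime_dvd_prime_iff_eq (by norm_num) hq).1 h).symm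
  have h2part : ¬ 4 ∣ Nat.card CA := fun h4 => by
    have hc := T.card_eq_multiplicity
    have hle : Nat.card (T : Subgroup CA) ≤ 2 := by
      have hinj : Function.Injective (fun g : (T : Subgroup CA) => decide (((g : CA) : G) = 1)) := by
        intro g h e
        simp only [decide_eq_decide] at e
        refine Subtype.ext (Subtype.ext ?_)
        rcases hTmem g g.2 with hg | hg <;> rcases hTmem h h.2 with hh | hh
        · rw [hg, hh]
        · rw [hg, e.1 hg]
        · rw [hh, e.2 hh]
        · rw [hg, hh]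
      exact (Nat.card_le_card_of_injective _ hinj).trans (by simp)
    have h2 : 2 ≤ (Nat.card CA).factorization 2 :=
      (Nat.prime_two.pow_dvd_iff_le_factorization h22).1 (show 2 ^ 2 ∣ _ from h4)
    rw [hc] at hle
    have := Nat.pow_le_pow_right (show 0 < 2 by norm_num) h2
    omega
  have h113 : ¬ 11 ^ 3 ∣ Nat.card CA := fun h => by
    obtain ⟨U, hU⟩ := Sylow.exists_subgroup_card_pow_prime 11 h
    set U' : Subgroup G := U.map CA.subtype
    have hU' : Nat.card U' = 11 ^ 3 := by
      rw [Nat.card_congr (U.equivMapOfInjective _ CA.subtype_injective).toEquiv.symm, hU]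
    let S : Sylow 11 G := Sylow.ofCard U' (by
      rw [hU', hG, show (2 ^ 21 * 3 ^ 3 * 5 * 7 * 11 ^ 3 * 23 * 29 * 31 * 37 * 43 : ℕ) =
        11 ^ 3 * (2 ^ 21 * 3 ^ 3 * 5 * 7 * 23 * 29 * 31 * 37 * 43) by norm_num,
        Nat.factorization_mul (by norm_num) (by norm_num), Finsupp.add_apply,
        Nat.Prime.factorization_pow (by norm_num : Nat.Prime 11), Finsupp.single_eq_same,
        Nat.factorization_eq_zero_of_not_dvd (by norm_num : ¬ 11 ∣ 2 ^ 21 * 3 ^ 3 * 5 * 7 * 23 * 29 * 31 * 37 * 43)])
    obtain ⟨⟨-, hcen⟩, hN⟩ := h11 S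
    have hS : (S : Subgroup G) = U' := rfl
    rw [hS] at hN
    have hUle : U' ≤ CA := map_subtype_le U
    have hcen' : Nat.card (center U') = 11 := hcen
    have haU : a ∈ U' := by
      -- `a` centralises the Sylow subgroup, hence lies in it
      by_contra haU
      have hnorm : zpowers a ≤ normalizer (U' : Set G) := zpowers_le.2 (centralizer_le_normalizer _
        (mem_centralizer_iff.2 fun y hy => (mem_centralizer_singleton_iff.1 (hUle hy))))
      have hp : IsPGroup 11 ↥(zpowers a ⊔ U') :=
        (IsPGroup.of_card (n := 1) (by rw [Nat.card_zpowers, ha, pow_one])).to_sup_of_normal_right'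
          (IsPGroup.of_card hU') hnorm
      exact haU (S.3 hp le_sup_right ▸ mem_sup_left (mem_zpowers a) : a ∈ (S : Subgroup G))
    have hza : zpowers (⟨a, haU⟩ : U') = center U' := by
      refine Subgroup.eq_of_le_of_card_ge (zpowers_le.2 (mem_center_iff.2 fun y => Subtype.ext ?_)) ?_
      · exact mem_centralizer_singleton_iff.1 (hUle y.2)
      · rw [hcen', Nat.card_zpowers, Subgroup.orderOf_mk, ha]
    set A : Subgroup G := zpowers a
    have hNle : normalizer (U' : Set G) ≤ normalizer (A : Set G) := by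
      intro g hg
      refine mem_normalizer_fintype fun y hy => ?_
      obtain ⟨k, rfl⟩ := mem_zpowers_iff.1 hy
      rw [← conj_zpow]
      refine zpow_mem ?_ k
      have hga : g * a * g⁻¹ ∈ U' := (mem_normalizer_iff.1 hg a).1 haU
      have hc : (⟨g * a * g⁻¹, hga⟩ : U') ∈ center U' := mem_center_iff.2 fun y => Subtype.ext (by
        have hy' : g⁻¹ * (y : G) * g ∈ U' := by
          have := (mem_normalizer_iff.1 (inv_mem hg) (y : G)).1 y.2
          rwa [inv_inv] at this
        have hcm := mem_centralizer_singleton_iff.1 (hUle hy')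
        show (y : G) * (g * a * g⁻¹) = g * a * g⁻¹ * y
        calc (y : G) * (g * a * g⁻¹) = g * ((g⁻¹ * y * g) * a) * g⁻¹ := by group
          _ = g * (a * (g⁻¹ * y * g)) * g⁻¹ := by rw [hcm]
          _ = g * a * g⁻¹ * y := by group)
      rw [← hza] at hc
      obtain ⟨m, hm⟩ := mem_zpowers_iff.1 hc
      exact mem_zpowers_iff.2 ⟨m, by simpa using congrArg Subtype.val hm⟩
    have hNA : Nat.card (normalizer (A : Set G)) ∣ Nat.card CA * 10 := by
      rw [Subgroup.card_eq_card_quotient_mul_card_subgroup A.normalizerMonoidHom.ker, mul_comm]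
      refine mul_dvd_mul ?_ ?_
      · rw [Subgroup.normalizerMonoidHom_ker,
          Nat.card_congr (subgroupOfEquivOfLe (centralizer_le_normalizer (A : Set G))).toEquiv]
        refine card_dvd_of_le fun y hy => mem_centralizer_singleton_iff.2 ?_
        exact (mem_centralizer_iff.1 hy a (mem_zpowers a)).symm
      · rw [Nat.card_congr (QuotientGroup.quotientKerEquivRange A.normalizerMonoidHom).toEquiv]
        refine (card_subgroup_dvd_card _).trans ?_
        rw [IsCyclic.card_mulAut, Nat.card_zpowers, ha, Nat.totient_prime (by norm_num)]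
    have h240 : 2 ^ 4 * 3 * 5 * 11 ^ 3 ∣ Nat.card CA * 10 := (hN ▸ card_dvd_of_le hNle).trans hNA
    rcases (Nat.prime_three.dvd_mul).1 ((show 3 ∣ 2 ^ 4 * 3 * 5 * 11 ^ 3 by norm_num).trans h240) with h | h
    · rcases hprime 3 Nat.prime_three h with e | e <;> norm_num at e
    · norm_num at h
  -- conclusion
  rw [← Nat.factorization_le_iff_dvd h22 (by norm_num)]
  intro q
  by_cases hqd : q.Prime ∧ q ∣ Nat.card CA
  · have e2 : (242 : ℕ).factorization 2 = 1 ∧ (242 : ℕ).factorization 11 = 2 := by
      rw [show (242 : ℕ) = 2 * 11 ^ 2 by norm_num, Nat.factorization_mul (by norm_num) (by norm_num),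
        Finsupp.add_apply, Finsupp.add_apply, Nat.Prime.factorization_self Nat.prime_two,
        Nat.factorization_eq_zero_of_not_dvd (by norm_num : ¬ 2 ∣ 11 ^ 2),
        Nat.factorization_eq_zero_of_not_dvd (by norm_num : ¬ 11 ∣ 2),
        Nat.Prime.factorization_pow (by norm_num : Nat.Prime 11), Finsupp.single_eq_same]
      norm_num
    rcases hprime q hqd.1 hqd.2 with rfl | rfl
    · rw [e2.1]
      by_contra h
      exact h2part ((Nat.prime_two.pow_dvd_iff_le_factorization h22).2 (show 2 ≤ _ by omega))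
    · rw [e2.2]
      by_contra h
      exact h113 (((by norm_num : Nat.Prime 11).pow_dvd_iff_le_factorization h22).2 (show 3 ≤ _ by omega))
  · simp only [not_and] at hqd
    by_cases hq : q.Prime
    · rw [Nat.factorization_eq_zero_of_not_dvd (hqd hq)]; exact Nat.zero_le _
    · rw [Nat.factorization_eq_zero_of_not_prime _ hq]; exact Nat.zero_le _

end CfsgLib.J4PGL
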