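import Cfsg.Agent.Golay.LineMaximal
import Cfsg.Agent.Classical.SmallPSL

/-!
A group containing a copy of the projective special linear group of the line over 23 points, together with
an involution acting on its three kinds of generators as negation does, contains the projective general
linear group.
-/

set_option autoImplicit false
set_option linter.style.haveILetI false
set_option linter.unusedSectionVars false

namespace CfsgLib.J4PGL

open Cfsg CfsgLib.Golay.LineMax

local instance fact23 : Fact (Nat.Prime 23) := ⟨by norm_num⟩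

attribute [local instance] Classical.propDecidable

/-- The multiplier two, of order eleven. -/
def two : (ZMod 23)ˣ := ⟨2, 12, by decide, by decide⟩

/-- Translation by one. -/
def trans : Equiv.Perm GolayPt := aff 1 1

/-- Doubling. -/
def dbl : Equiv.Perm GolayPt := aff two 0

/-- Negation on the line. -/
def rho : Equiv.Perm GolayPt := aff (-1) 0

theorem trans_mem : trans ∈ lineGroup :=
  affSq_le_line (mem_affSq.mpr ⟨1, IsSquare.one, 1, rfl⟩)

theorem dbl_mem : dbl ∈ lineGroup :=
  affSq_le_line (mem_affSq.mpr ⟨two, ⟨⟨5, 14, by decide, by decide⟩, by decide⟩, 0, rfl⟩)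

theorem rho_sq : rho * rho = 1 := by
  rw [rho, aff_mul, neg_mul_neg, one_mul, mul_zero, zero_add, aff_one_zero]

theorem square_eq_pow : ∀ u : (ZMod 23)ˣ, IsSquare u → ∃ k : Fin 11, u = two ^ (k : ℕ) := by
  decide +kernel

theorem dbl_pow (k : ℕ) : dbl ^ k = aff (two ^ k) 0 := by
  induction k with
  | zero => rw [pow_zero, pow_zero, aff_one_zero]
  | succ k ih => rw [pow_succ, pow_succ, ih, dbl, aff_mul, mul_zero, zero_add]

theorem rho_trans : rho * trans * rho = trans⁻¹ := by
  refine (inv_eq_of_mul_eq_one_right ?_).symm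
  simp only [trans, rho, aff_mul]
  rw [← aff_one_zero]
  decide +kernel

theorem rho_dbl : rho * dbl * rho = dbl := by
  simp only [dbl, rho, aff_mul]
  decide +kernel

theorem rho_inv : rho * projInv * rho = projInv := by
  refine Equiv.ext fun x => ?_
  revert x
  decide +kernel

theorem dbl_pow_eleven : dbl ^ 11 = 1 := by
  rw [dbl_pow, ← aff_one_zero]
  congr 1

theorem trans_pow : trans ^ 23 = 1 := by
  rw [trans, aff_pow, ← aff_one_zero]
  congr 1

/-- The three kinds of generators. -/
def gens3 : Set (Equiv.Perm GolayPt) := {trans, dbl, projInv}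

theorem closure_gens3 : Subgroup.closure gens3 = lineGroup := by
  refine le_antisymm ((Subgroup.closure_le _).2 ?_) ((Subgroup.closure_le _).2 ?_)
  · rintro g (rfl | rfl | rfl)
    exacts [trans_mem, dbl_mem, projInv_mem_line]
  · rintro g ((rfl | rfl) | ⟨u, hu, rfl⟩)
    · exact Subgroup.subset_closure (Or.inl translation_eq)
    · exact Subgroup.subset_closure (Or.inr (Or.inr rfl))
    · obtain ⟨k, rfl⟩ := square_eq_pow u hu
      rw [mulLeft_eq, ← dbl_pow]
      exact pow_mem (Subgroup.subset_closure (Or.inr (Or.inl rfl)) : dbl ∈ Subgroup.closure gens3) _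

theorem sign_line {g : Equiv.Perm GolayPt} (hg : g ∈ lineGroup) : Equiv.Perm.sign g = 1 := by
  have h : lineGroup ≤ MonoidHom.ker (Equiv.Perm.sign : Equiv.Perm GolayPt →* ℤˣ) := by
    rw [← closure_gens3, Subgroup.closure_le]
    rintro g (rfl | rfl | rfl) <;> show Equiv.Perm.sign _ = 1 <;> decide +kernel
  exact MonoidHom.mem_ker.1 (h hg)

theorem rho_not_mem : rho ∉ lineGroup := fun h => by
  have h1 := sign_line h
  revert h1
  decide +kernel

theorem conj_mem {g : Equiv.Perm GolayPt} (hg : g ∈ lineGroup) : rho * g * rho ∈ lineGroup := by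
  have h : lineGroup ≤ lineGroup.comap (MulAut.conj rho).toMonoidHom := by
    conv_lhs => rw [← closure_gens3]
    rw [Subgroup.closure_le]
    rintro g (rfl | rfl | rfl) <;>
      rw [SetLike.mem_coe, Subgroup.mem_comap, MulEquiv.coe_toMonoidHom, MulAut.conj_apply,
        inv_eq_of_mul_eq_one_right rho_sq]
    · rw [rho_trans]; exact inv_mem trans_mem
    · rw [rho_dbl]; exact dbl_mem
    · rw [rho_inv]; exact projInv_mem_line
  have := h hg
  rwa [Subgroup.mem_comap, MulEquiv.coe_toMonoidHom, MulAut.conj_apply,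
    inv_eq_of_mul_eq_one_right rho_sq] at this

/-- The projective general linear group of the line. -/
def lineGL : Subgroup (Equiv.Perm GolayPt) where
  carrier := {x | x ∈ lineGroup ∨ x * rho ∈ lineGroup}
  one_mem' := Or.inl (one_mem _)
  mul_mem' := by
    rintro a b (ha | ha) (hb | hb)
    · exact Or.inl (mul_mem ha hb)
    · exact Or.inr ((mul_assoc a b rho).symm ▸ mul_mem ha hb)
    · refine Or.inr ?_
      have := mul_mem ha (conj_mem hb)
      simpa only [mul_assoc, ← mul_assoc rho rho, rho_sq, one_mul] using this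
    · refine Or.inl ?_
      have := mul_mem ha (conj_mem hb)
      simpa only [mul_assoc, ← mul_assoc rho rho, rho_sq, one_mul, mul_one] using this
  inv_mem' := by
    rintro a (ha | ha)
    · exact Or.inl (inv_mem ha)
    · refine Or.inr ?_
      have := conj_mem (inv_mem ha)
      simpa only [mul_inv_rev, inv_eq_of_mul_eq_one_right rho_sq, mul_assoc, ← mul_assoc rho rho, rho_sq,
        one_mul] using this

theorem not_both {x : Equiv.Perm GolayPt} (h : x ∈ lineGroup) (h' : x * rho ∈ lineGroup) : False := by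
  have := mul_mem (inv_mem h) h'
  rw [inv_mul_cancel_left] at this
  exact rho_not_mem this

/-- The matrices modulo scalars as permutations of the points. -/
noncomputable def pg : GL (Fin 2) (ZMod 23) ⧸ Subgroup.center (GL (Fin 2) (ZMod 23)) →* Equiv.Perm GolayPt :=
  CfsgLib.Linear.Small.pglPerm (ZMod 23)

theorem pg_injective : Function.Injective pg := CfsgLib.Linear.Small.pglPerm_injective

theorem range_pg : pg.range = lineGL := by
  have hgen : ∀ g ∈ gens3, g ∈ pg.range := by
    rintro g (rfl | rfl | rfl)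
    · refine ⟨CfsgLib.Dickson.aff 1 1, Equiv.ext fun x => ?_⟩
      rcases x with _ | x
      · exact CfsgLib.Dickson.aff_smul_infty _ _
      · exact CfsgLib.Dickson.aff_smul_coe _ _ _
    · refine ⟨CfsgLib.Dickson.aff two 0, Equiv.ext fun x => ?_⟩
      rcases x with _ | x
      · exact CfsgLib.Dickson.aff_smul_infty _ _
      · exact CfsgLib.Dickson.aff_smul_coe _ _ _
    · refine ⟨CfsgLib.Dickson.mob (0 : ZMod 23) (-1) 1 0 (by decide), Equiv.ext fun x => ?_⟩
      rcases x with _ | x
      · refine (CfsgLib.Dickson.mob_smul_infty _ _ _ _ _).trans ?_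
        rw [if_neg one_ne_zero, zero_div]
        rfl
      · refine (CfsgLib.Dickson.mob_smul_coe _ _ _ _ _ x).trans ?_
        rw [one_mul, add_zero, zero_mul, zero_add]
        show _ = projInvFun (some x)
        rw [show projInvFun (some x) = if x = 0 then none else some (-(x ^ 21)) from rfl]
        by_cases hx : x = 0
        · rw [if_pos hx, if_pos hx]; rfl
        · rw [if_neg hx, if_neg hx, neg_div, one_div]
          refine congrArg some (congrArg Neg.neg (inv_eq_of_mul_eq_one_right ?_))
          rw [← pow_succ']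
          exact ZMod.pow_card_sub_one_eq_one hx
  have hrho : rho ∈ pg.range := ⟨CfsgLib.Dickson.aff (-1) 0, Equiv.ext fun x => by
    rcases x with _ | x
    · exact CfsgLib.Dickson.aff_smul_infty _ _
    · exact CfsgLib.Dickson.aff_smul_coe _ _ _⟩
  have hle : lineGL ≤ pg.range := by
    have hL : lineGroup ≤ pg.range := by
      rw [← closure_gens3]; exact (Subgroup.closure_le _).2 hgen
    rintro x (hx | hx)
    · exact hL hx
    · simpa [mul_assoc, rho_sq] using mul_mem (hL hx) hrho
  refine (Subgroup.eq_of_le_of_card_ge hle ?_).symm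
  have h1 : Nat.card pg.range = 12144 := by
    rw [Nat.card_congr (MonoidHom.ofInjective pg_injective).toEquiv.symm]
    show Nat.card (Matrix.ProjGenLinGroup (Fin 2) (ZMod 23)) = _
    rw [CfsgLib.Linear.card_PGL]
    have h := CfsgLib.Linear.card_SL_mul (F := ZMod 23) (ZMod.card 23) 2 (by norm_num)
    rw [Fin.prod_univ_two] at h
    norm_num [-Nat.card_eq_fintype_card] at h ⊢
    omega
  have h2 : 12144 ≤ Nat.card lineGL := by
    have hf : Function.Injective (Sum.elim (fun a : lineGroup => (⟨a.1, Or.inl a.2⟩ : lineGL))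
        (fun a : lineGroup => ⟨a.1 * rho, Or.inr (by simp [mul_assoc, rho_sq, a.2])⟩)) := by
      rintro (a | a) (b | b) h <;> simp only [Sum.elim_inl, Sum.elim_inr] at h <;>
        replace h := congrArg Subtype.val h <;> dsimp only at h
      · exact congrArg Sum.inl (Subtype.ext h)
      · exact (not_both b.2 (h ▸ a.2)).elim
      · exact (not_both a.2 (h.symm ▸ b.2)).elim
      · exact congrArg Sum.inr (Subtype.ext (mul_right_cancel h))
    have := Nat.card_le_card_of_injective _ hf
    rwa [Nat.card_sum, card_lineGroup] at this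
  omega

variable {G : Type*} [Group G]

/-- The value of the extension at a permutation. -/
noncomputable def ext (ι : lineGroup →* G) (t : G) (x : Equiv.Perm GolayPt) : G :=
  if h : x ∈ lineGroup then ι ⟨x, h⟩ else if h' : x * rho ∈ lineGroup then ι ⟨x * rho, h'⟩ * t else 1

theorem ext_left (ι : lineGroup →* G) (t : G) (a : lineGroup) : ext ι t a.1 = ι a := by
  rw [ext, dif_pos a.2]

theorem ext_right (ι : lineGroup →* G) (t : G) (a : lineGroup) : ext ι t (a.1 * rho) = ι a * t := by
  have h : a.1 * rho * rho = a.1 := by rw [mul_assoc, rho_sq, mul_one]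
  rw [ext, dif_neg fun hh => not_both a.2 hh, dif_pos (by rw [h]; exact a.2)]
  exact congrArg (ι · * t) (Subtype.ext h)

/-- **The criterion.** -/
theorem exists_pgl (ι : lineGroup →* G) (hι : Function.Injective ι) (t : G) (ht : t * t = 1)
    (hs : t * ι ⟨trans, trans_mem⟩ * t = (ι ⟨trans, trans_mem⟩)⁻¹)
    (hm : t * ι ⟨dbl, dbl_mem⟩ * t = ι ⟨dbl, dbl_mem⟩)
    (hw : t * ι ⟨projInv, projInv_mem_line⟩ * t = ι ⟨projInv, projInv_mem_line⟩)
    (hne : t ∉ ι.range) :
    ∃ K : Subgroup G, Nonempty (↥K ≃* GL (Fin 2) (ZMod 23) ⧸ Subgroup.center (GL (Fin 2) (ZMod 23))) := by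
  have hrho : rho⁻¹ = rho := inv_eq_of_mul_eq_one_right rho_sq
  have htinv : t⁻¹ = t := inv_eq_of_mul_eq_one_right ht
  let cj : lineGroup →* lineGroup :=
    { toFun := fun b => ⟨rho * b.1 * rho, conj_mem b.2⟩
      map_one' := Subtype.ext (by simp [rho_sq])
      map_mul' := fun a b => Subtype.ext (by
        show rho * (a.1 * b.1) * rho = rho * a.1 * rho * (rho * b.1 * rho)
        simp only [mul_assoc, ← mul_assoc rho rho, rho_sq, one_mul]) }
  have hagree : ι.comp cj = (MulAut.conj t).toMonoidHom.comp ι := by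
    have hcl : Subgroup.closure ({⟨trans, trans_mem⟩, ⟨dbl, dbl_mem⟩, ⟨projInv, projInv_mem_line⟩} : Set lineGroup) = ⊤ := by
      refine Subgroup.map_injective lineGroup.subtype_injective ?_
      rw [MonoidHom.map_closure, ← MonoidHom.range_eq_map, Subgroup.range_subtype]
      convert closure_gens3 using 2
      simp [gens3, Set.image_insert_eq]
    refine MonoidHom.eq_of_eqOn_dense hcl ?_
    rintro x (rfl | rfl | rfl) <;> show ι ⟨rho * _ * rho, _⟩ = t * _ * t⁻¹ <;> rw [htinv]
    · rw [hs, ← map_inv]; exact congrArg ι (Subtype.ext rho_trans)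
    · rw [hm]; exact congrArg ι (Subtype.ext rho_dbl)
    · rw [hw]; exact congrArg ι (Subtype.ext rho_inv)
  have hcj : ∀ b : lineGroup, t * ι b = ι (cj b) * t := fun b => by
    rw [show ι (cj b) = t * ι b * t⁻¹ from DFunLike.congr_fun hagree b, inv_mul_cancel_right]
  have hsplit : ∀ x : lineGL, ∃ a : lineGroup, x.1 = a.1 ∨ x.1 = a.1 * rho := by
    rintro ⟨x, hx | hx⟩
    · exact ⟨⟨x, hx⟩, Or.inl rfl⟩
    · exact ⟨⟨x * rho, hx⟩, Or.inr (by simp [mul_assoc, rho_sq])⟩
  have hmove : ∀ (a b : lineGroup), a.1 * rho * b.1 = (a * cj b).1 * rho := fun a b => by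
    show a.1 * rho * b.1 = a.1 * (rho * b.1 * rho) * rho
    simp only [mul_assoc, rho_sq, mul_one]
  let Φ : lineGL →* G :=
    MonoidHom.mk' (fun x => ext ι t x.1) (by
      rintro x y
      obtain ⟨a, ha | ha⟩ := hsplit x <;> obtain ⟨b, hb | hb⟩ := hsplit y <;>
        simp only [Subgroup.coe_mul, ha, hb]
      · rw [← Subgroup.coe_mul, ext_left, ext_left, ext_left, map_mul]
      · rw [← mul_assoc, ← Subgroup.coe_mul, ext_right, ext_left, ext_right, map_mul, mul_assoc]
      · rw [hmove, ext_right, ext_left, ext_right, map_mul, mul_assoc, mul_assoc, hcj]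
      · rw [← mul_assoc, hmove, mul_assoc (a * cj b).1, rho_sq, mul_one, ext_left, ext_right, ext_right,
          map_mul, mul_assoc (ι a) t, ← mul_assoc t, hcj, mul_assoc (ι (cj b)), ht, mul_one])
  have hΦ : Function.Injective Φ := by
    refine (injective_iff_map_eq_one Φ).2 fun x hx => ?_
    obtain ⟨a, ha | ha⟩ := hsplit x <;> rw [show Φ x = ext ι t x.1 from rfl, ha] at hx
    · rw [ext_left, ← map_one ι] at hx
      exact Subtype.ext (ha.trans (congrArg Subtype.val (hι hx)))
    · rw [ext_right] at hx
      exact (hne ⟨a⁻¹, by rw [map_inv]; exact inv_eq_of_mul_eq_one_right hx⟩).elim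
  let ψ : GL (Fin 2) (ZMod 23) ⧸ Subgroup.center (GL (Fin 2) (ZMod 23)) →* G :=
    Φ.comp (pg.codRestrict lineGL fun x => range_pg ▸ ⟨x, rfl⟩)
  have hψ : Function.Injective ψ := hΦ.comp fun a b h => pg_injective (congrArg Subtype.val h)
  exact ⟨ψ.range, ⟨(MonoidHom.ofInjective hψ).symm⟩⟩

/-- An element inverting the translation and commuting with doubling lies outside the copy of the group. -/
theorem not_in_range (ι : lineGroup →* G) (hι : Function.Injective ι) (t : G)
    (hs : t * ι ⟨trans, trans_mem⟩ * t⁻¹ = (ι ⟨trans, trans_mem⟩)⁻¹)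
    (hm : t * ι ⟨dbl, dbl_mem⟩ * t⁻¹ = ι ⟨dbl, dbl_mem⟩) : t ∉ ι.range := by
  rintro ⟨e, rfl⟩
  rw [← map_inv, ← map_mul, ← map_mul, ← map_inv] at hs
  rw [← map_inv, ← map_mul, ← map_mul] at hm
  have h1 : e.1 * trans = trans⁻¹ * e.1 := mul_inv_eq_iff_eq_mul.1 (congrArg Subtype.val (hι hs))
  have h2 : e.1 * dbl = dbl * e.1 := mul_inv_eq_iff_eq_mul.1 (congrArg Subtype.val (hι hm))
  have hfix : ∀ x : GolayPt, trans x = x → x = none := by decide +kernel
  have hfix2 : ∀ x : GolayPt, dbl x = x → x = none ∨ x = some 0 := by decide +kernel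
  have hnone : e.1 none = none := by
    refine hfix _ ?_
    have h := congrArg (fun p => trans (p none)) h1
    simpa [Equiv.Perm.mul_apply, show trans none = none from rfl] using h
  have hzero : e.1 (some 0) = some 0 := by
    have h := congrArg (fun p => p (some (0 : ZMod 23))) h2
    simp only [Equiv.Perm.mul_apply, show dbl (some 0) = some 0 from by decide +kernel] at h
    rcases hfix2 _ h.symm with hh | hh
    · exact absurd (e.1.injective (hh.trans hnone.symm)) (by simp)
    · exact hh
  have hpow : ∀ k : ℕ, e.1 * trans ^ k = (trans ^ k)⁻¹ * e.1 := fun k =>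
    ((show SemiconjBy e.1 trans trans⁻¹ from h1).pow_right k).trans (by rw [inv_pow])
  have hall : e.1 = rho := by
    refine Equiv.ext fun x => ?_
    rcases x with _ | x
    · rw [hnone]; rfl
    · have hk : (trans ^ x.val) (some 0) = some x := by
        rw [trans, aff_pow, aff_some, mul_zero, zero_add, ZMod.natCast_zmod_val]
      have h := congrArg (fun p => p (some (0 : ZMod 23))) (hpow x.val)
      simp only [Equiv.Perm.mul_apply, hk, hzero] at h
      rw [h, Equiv.Perm.inv_eq_iff_eq, trans, aff_pow, ZMod.natCast_zmod_val, rho]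
      simp [aff_some]
  exact rho_not_mem (hall ▸ e.2)

end CfsgLib.J4PGL
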