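import Cfsg.Agent.J4PGL.Line
import Cfsg.Agent.J4Local.Eleven.Duads
import Cfsg.Agent.Golay.IndexPoint

/-!
The projective general linear group of the line over 23 points inside a group with a subgroup `2^11:M24`,
given the normaliser of a subgroup of order 23 and the centraliser of an element of order eleven of the
complement. Two conjugacy classes of complements are used: the second one is the twist of the first by the
duads through a fixed point.
-/

set_option autoImplicit false
set_option maxRecDepth 100000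
set_option linter.style.haveILetI false
set_option linter.unusedSectionVars false

namespace CfsgLib.J4PGL

open Cfsg CfsgLib.Golay.LineMax CfsgLib.J4Eleven Subgroup

attribute [local instance] Classical.propDecidable

local instance fact23' : Fact (Nat.Prime 23) := ⟨by norm_num⟩

/-- Translation in the group of the code. -/
def trans24 : M24 := ⟨trans, lineGroup_le trans_mem⟩

/-- Doubling in the group of the code. -/
def dbl24 : M24 := ⟨dbl, lineGroup_le dbl_mem⟩

/-- Inversion in the group of the code. -/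
def inv24 : M24 := ⟨projInv, lineGroup_le projInv_mem_line⟩

theorem orderOf_dbl24 : orderOf dbl24 = 11 := by
  haveI : Fact (Nat.Prime 11) := ⟨by norm_num⟩
  refine orderOf_eq_prime (Subtype.ext (by rw [SubmonoidClass.coe_pow]; exact dbl_pow_eleven)) fun h => ?_
  have h1 := congrArg (fun g : M24 => (g : Equiv.Perm GolayPt) (some 1)) h
  revert h1
  decide +kernel

theorem orderOf_trans24 : orderOf trans24 = 23 := by
  refine orderOf_eq_prime (Subtype.ext (by rw [SubmonoidClass.coe_pow]; exact trans_pow)) fun h => ?_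
  have h1 := congrArg (fun g : M24 => (g : Equiv.Perm GolayPt) (some (1 : ZMod 23))) h
  revert h1
  decide +kernel

theorem dbl24_trans24 : dbl24 * trans24 * dbl24⁻¹ = trans24 ^ 2 := by
  rw [mul_inv_eq_iff_eq_mul, pow_two]
  refine Subtype.ext (Equiv.ext fun x => ?_)
  revert x
  decide +kernel

theorem inv24_sq : inv24 * inv24 = 1 := Subtype.ext projInv_sq

theorem inv24_dbl : inv24 * dbl24 * inv24⁻¹ = dbl24⁻¹ := by
  rw [inv_eq_of_mul_eq_one_right inv24_sq]
  refine (inv_eq_of_mul_eq_one_right (Subtype.ext (Equiv.ext fun x => ?_))).symm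
  revert x
  decide +kernel

theorem stab_cent {g : M24} (hc : g * dbl24 = dbl24 * g) (hg : (g : Equiv.Perm GolayPt) none = none) :
    g ∈ zpowers dbl24 := by
  haveI : Fact (Nat.Prime 11) := ⟨by norm_num⟩
  set K : Subgroup M24 := centralizer ({dbl24} : Set M24) ⊓ MulAction.stabilizer M24 (none : GolayPt)
  have hKle : zpowers dbl24 ≤ K := zpowers_le.2 ⟨mem_centralizer_singleton_iff.2 rfl, rfl⟩
  have hq : ∀ q : ℕ, q.Prime → q ∣ Nat.card K → q = 11 := fun q hq hd => by
    haveI : Fact q.Prime := ⟨hq⟩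
    obtain ⟨c, hcq⟩ := exists_prime_orderOf_dvd_card' (G := K) q hd
    exact CfsgLib.Golay.Cert.eleven_centralizer orderOf_dbl24 (e := none) rfl c.2.2
      (mem_centralizer_singleton_iff.1 c.2.1) hq (by rw [Subgroup.orderOf_coe, hcq])
  have hpow := Nat.eq_prime_pow_of_unique_prime_dvd (p := 11) Nat.card_pos.ne' fun {d} hd hd' => hq d hd hd'
  have hdv : Nat.card K ∣ 244823040 := CfsgLib.Golay.card_M24 ▸ card_subgroup_dvd_card K
  have hK : Nat.card K ≤ 11 := by
    generalize (Nat.card K).primeFactorsList.length = k at hpow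
    rw [hpow] at hdv ⊢
    rcases Nat.lt_or_ge k 2 with hk | hk
    · calc 11 ^ k ≤ 11 ^ 1 := Nat.pow_le_pow_right (by norm_num) (by omega)
        _ = 11 := pow_one _
    · exact absurd ((pow_dvd_pow 11 hk).trans hdv) (by norm_num)
  rw [Subgroup.eq_of_le_of_card_ge hKle (by rw [Nat.card_zpowers, orderOf_dbl24]; exact hK)]
  exact ⟨mem_centralizer_singleton_iff.2 hc, hg⟩

/-- The centraliser of doubling does not interchange its two fixed points. -/
theorem cent_dbl {g : M24} (hc : g * dbl24 = dbl24 * g)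
    (hg : (g : Equiv.Perm GolayPt) none = none ∨ (g : Equiv.Perm GolayPt) none = some 0) :
    g ∈ zpowers dbl24 := by
  rcases hg with hg | hg
  · exact stab_cent hc hg
  exfalso
  set g0 := inv24 * g with hg0
  have hfix : (g0 : Equiv.Perm GolayPt) none = none := by
    show projInv ((g : Equiv.Perm GolayPt) none) = none
    rw [hg]; decide +kernel
  have hinv : g0 * dbl24 * g0⁻¹ = dbl24⁻¹ := by
    rw [hg0]
    calc inv24 * g * dbl24 * (inv24 * g)⁻¹ = inv24 * (g * dbl24 * g⁻¹) * inv24⁻¹ := by group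
      _ = _ := by rw [hc, mul_inv_cancel_right, inv24_dbl]
  have hinv' : g0 * dbl24⁻¹ * g0⁻¹ = dbl24 := by rw [← conj_inv, hinv, inv_inv]
  have hsq : g0 * g0 ∈ zpowers dbl24 := by
    refine stab_cent ?_ ?_
    · rw [← mul_inv_eq_iff_eq_mul]
      calc g0 * g0 * dbl24 * (g0 * g0)⁻¹ = g0 * (g0 * dbl24 * g0⁻¹) * g0⁻¹ := by group
        _ = _ := by rw [hinv, hinv']
    · show (g0 : Equiv.Perm GolayPt) ((g0 : Equiv.Perm GolayPt) none) = none
      rw [hfix, hfix]
  obtain ⟨i, hi⟩ := mem_zpowers_iff.1 hsq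
  have h1 : g0 * dbl24 ^ i * g0⁻¹ = dbl24 ^ i := by rw [hi]; group
  rw [← conj_zpow, hinv, inv_zpow', ← orderOf_dvd_sub_iff_zpow_eq_zpow, orderOf_dbl24] at h1
  have h2 : g0 ^ 2 = 1 := by
    rw [pow_two, ← hi, ← orderOf_dvd_iff_zpow_eq_one, orderOf_dbl24]
    omega
  haveI : Fact (Nat.Prime 2) := ⟨Nat.prime_two⟩
  have hne : dbl24⁻¹ ≠ dbl24 := fun e => by
    have h : dbl24 ^ 2 = 1 := by rw [pow_two]; nth_rw 1 [← e]; exact inv_mul_cancel _
    have := orderOf_dvd_of_pow_eq_one h
    rw [orderOf_dbl24] at this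
    norm_num at this
  refine CfsgLib.Golay.LineMax.no_inverting (p := 11) (by norm_num) le_rfl orderOf_dbl24
    (CfsgLib.Golay.Cert.fixed_eleven orderOf_dbl24).le (c := g0) (orderOf_eq_prime h2 fun e => hne ?_) hfix
    (by rw [hinv]; exact inv_mem (mem_zpowers _)) fun e => hne ?_
  · rw [← hinv, e]; group
  · rw [← hinv, e, mul_inv_cancel_right]

variable {G : Type*} [Group G] [Finite G] {z : G} {V : Subgroup G}
  {φ : ↥(normalizer (V : Set G)) →* M24} {d : GolayPt → GolayPt → G}

/-- An element of the normaliser of a self-centralising cyclic group of order 23, with quotient of order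
22, inverts it and may be chosen to centralise a given element of order eleven. -/
theorem exists_outer {s a : G} (hs : orderOf s = 23) (hrel : a * s * a⁻¹ = s ^ 2)
    (hC : centralizer (zpowers s : Set G) = zpowers s)
    (hN : Nat.card (normalizer (zpowers s : Set G)) = 23 * 22) :
    ∃ t : G, t * t = 1 ∧ t ≠ 1 ∧ t * s * t⁻¹ = s⁻¹ ∧ t * a * t⁻¹ = a := by
  haveI : Fact (Nat.Prime 2) := ⟨Nat.prime_two⟩
  obtain ⟨u, hu⟩ := exists_prime_orderOf_dvd_card' (G := normalizer (zpowers s : Set G)) 2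
    (by rw [hN]; norm_num)
  set t0 : G := (u : G)
  have ht0 : orderOf t0 = 2 := by rw [Subgroup.orderOf_coe, hu]
  have ht0i : t0⁻¹ = t0 := inv_eq_of_mul_eq_one_right (by
    rw [← pow_two, ← ht0, pow_orderOf_eq_one])
  have inC : ∀ x : G, x * s * x⁻¹ = s → x ∈ zpowers s := fun x hx => by
    rw [← hC, mem_centralizer_iff]
    intro y hy
    obtain ⟨k, rfl⟩ := mem_zpowers_iff.1 hy
    exact ((show Commute x s from mul_inv_eq_iff_eq_mul.1 hx).zpow_right k).eq.symm
  have hinv : t0 * s * t0⁻¹ = s⁻¹ := by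
    obtain ⟨j, hj⟩ := mem_zpowers_iff.1 ((mem_normalizer_iff.1 u.2 s).1 (mem_zpowers s))
    have hjj : s ^ (j * j) = s ^ (1 : ℤ) := by
      rw [zpow_mul, hj, conj_zpow, hj, ht0i, zpow_one]
      calc t0 * (t0 * s * t0) * t0 = (t0 * t0) * s * (t0 * t0) := by group
        _ = s := by rw [show t0 * t0 = 1 by nth_rw 1 [← ht0i]; exact inv_mul_cancel _, one_mul, mul_one]
    rw [← orderOf_dvd_sub_iff_zpow_eq_zpow, hs, show j * j - 1 = (j - 1) * (j + 1) by ring] at hjj
    rcases (Nat.prime_iff_prime_int.mp (by norm_num : Nat.Prime 23)).dvd_mul.mp hjj with h | h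
    · exfalso
      have hfix : t0 * s * t0⁻¹ = s := by
        rw [← hj]; nth_rw 2 [← zpow_one s]
        rw [← orderOf_dvd_sub_iff_zpow_eq_zpow, hs]; exact h
      have := _root_.orderOf_dvd_natCard (⟨t0, inC t0 hfix⟩ : zpowers s)
      rw [Subgroup.orderOf_mk, ht0, Nat.card_zpowers, hs] at this
      norm_num at this
    · rw [← hj, ← zpow_neg_one, ← orderOf_dvd_sub_iff_zpow_eq_zpow, hs]
      rwa [sub_neg_eq_add]
  have hb : t0 * a * t0⁻¹ * a⁻¹ ∈ zpowers s := by
    refine inC _ ?_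
    have h2 : a * s⁻¹ * a⁻¹ = (s ^ 2)⁻¹ := by rw [← conj_inv, hrel]
    have h3 : t0 * (s ^ 2)⁻¹ * t0⁻¹ = s ^ 2 := by rw [← conj_inv, ← conj_pow, hinv, inv_pow, inv_inv]
    have h4 : a⁻¹ * s * a = s ^ 12 := by
      have : a * s ^ 12 * a⁻¹ = s := by
        rw [← conj_pow, hrel, ← pow_mul, show 2 * 12 = 23 + 1 by norm_num, pow_succ, ← hs,
          pow_orderOf_eq_one, one_mul]
      calc a⁻¹ * s * a = a⁻¹ * (a * s ^ 12 * a⁻¹) * a := by rw [this]
        _ = s ^ 12 := by group
    calc t0 * a * t0⁻¹ * a⁻¹ * s * (t0 * a * t0⁻¹ * a⁻¹)⁻¹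
        = t0 * (a * (t0⁻¹ * (a⁻¹ * s * a) * t0) * a⁻¹) * t0⁻¹ := by group
      _ = t0 * (a * ((s⁻¹) ^ 12) * a⁻¹) * t0⁻¹ := by
        rw [← hinv, conj_pow, h4, ht0i]
      _ = s := by
        rw [← conj_pow, h2, ← conj_pow, h3, ← pow_mul, show 2 * 12 = 23 + 1 by norm_num, pow_succ, ← hs,
          pow_orderOf_eq_one, one_mul]
  obtain ⟨k, hk⟩ := mem_zpowers_iff.1 hb
  have hka : t0 * a * t0⁻¹ = s ^ k * a := by rw [hk]; group
  have hrz : ∀ m : ℤ, a * s ^ m = s ^ (2 * m) * a := fun m => by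
    rw [← mul_inv_eq_iff_eq_mul, ← conj_zpow, hrel, ← zpow_natCast, ← zpow_mul]; norm_num
  have hiz : ∀ m : ℤ, t0 * s ^ m * t0⁻¹ = s ^ (-m) := fun m => by
    rw [← conj_zpow, hinv, inv_zpow']
  refine ⟨s ^ (24 * k) * t0, ?_, ?_, ?_, ?_⟩
  · calc s ^ (24 * k) * t0 * (s ^ (24 * k) * t0) = s ^ (24 * k) * (t0 * s ^ (24 * k) * t0⁻¹) * (t0 * t0) := by group
      _ = 1 := by rw [hiz, ← zpow_add, add_neg_cancel, zpow_zero, one_mul]; nth_rw 1 [← ht0i]; exact inv_mul_cancel _
  · intro h
    have h' : t0 = (s ^ (24 * k))⁻¹ := (inv_eq_of_mul_eq_one_right h).symm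
    have := _root_.orderOf_dvd_natCard (⟨t0, h' ▸ inv_mem (zpow_mem (mem_zpowers s) _)⟩ : zpowers s)
    rw [Subgroup.orderOf_mk, ht0, Nat.card_zpowers, hs] at this
    norm_num at this
  · calc s ^ (24 * k) * t0 * s * (s ^ (24 * k) * t0)⁻¹
        = s ^ (24 * k) * (t0 * s * t0⁻¹) * (s ^ (24 * k))⁻¹ := by group
      _ = s⁻¹ := by rw [hinv]; group
  · calc s ^ (24 * k) * t0 * a * (s ^ (24 * k) * t0)⁻¹
        = s ^ (24 * k) * (t0 * a * t0⁻¹) * (s ^ (24 * k))⁻¹ := by group
      _ = s ^ (24 * k + k) * (a * s ^ (-(24 * k))) := by rw [hka, zpow_neg]; group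
      _ = a := by
        rw [hrz, ← mul_assoc, ← zpow_add,
          show (24 * k + k + 2 * -(24 * k) : ℤ) = (23 : ℕ) * -k by push_cast; ring, zpow_mul, zpow_natCast,
          ← hs, pow_orderOf_eq_one, one_zpow, one_mul]

/-- An involution `w` centralising the involution `v` and inverting an element `a` of order eleven with
centraliser of order dividing 242: every involution of the centraliser commutes with `w` or with `v * w`. -/
theorem commutes_twist {a v w t : G} (ha : orderOf a = 11) (hCa : Nat.card (centralizer ({a} : Set G)) ∣ 242)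
    (hva : v * a = a * v) (hv : v * v = 1) (hv1 : v ≠ 1) (hta : t * a = a * t) (ht : t * t = 1) (ht1 : t ≠ 1)
    (hw : w * w = 1) (hwv : w * v = v * w) (hwa : w * a * w = a⁻¹) :
    w * t = t * w ∨ v * w * t = t * (v * w) := by
  haveI : Fact (Nat.Prime 2) := ⟨Nat.prime_two⟩
  haveI : Fact (Nat.Prime 11) := ⟨by norm_num⟩
  set CA : Subgroup G := centralizer ({a} : Set G)
  have haC : a ∈ CA := mem_centralizer_singleton_iff.2 rfl
  have hvC : v ∈ CA := mem_centralizer_singleton_iff.2 hva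
  have htC : t ∈ CA := mem_centralizer_singleton_iff.2 hta
  obtain ⟨S⟩ := (inferInstance : Nonempty (Sylow 11 CA))
  have h22 : 22 ∣ Nat.card CA := by
    refine Nat.Coprime.mul_dvd_of_dvd_of_dvd (m := 2) (n := 11) (by norm_num) ?_ ?_
    · have := _root_.orderOf_dvd_natCard (⟨v, hvC⟩ : CA)
      rwa [Subgroup.orderOf_mk, orderOf_eq_prime (by rw [pow_two]; exact hv) hv1] at this
    · have := _root_.orderOf_dvd_natCard (⟨a, haC⟩ : CA)
      rwa [Subgroup.orderOf_mk, ha] at this
  obtain ⟨m, hm, hm11⟩ : ∃ m, Nat.card CA = 2 * m ∧ (m = 11 ∨ m = 121) := by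
    obtain ⟨q, hq⟩ := h22
    rw [hq, show 242 = 22 * 11 by norm_num, Nat.mul_dvd_mul_iff_left (by norm_num)] at hCa
    refine ⟨11 * q, by rw [hq]; ring, ?_⟩
    rcases (Nat.dvd_prime (by norm_num : Nat.Prime 11)).1 hCa with rfl | rfl <;> simp
  have hS : Nat.card (S : Subgroup CA) = m := by
    rw [S.card_eq_multiplicity, hm, Nat.factorization_mul (by norm_num) (by omega), Finsupp.add_apply,
      Nat.factorization_eq_zero_of_not_dvd (by norm_num : ¬ 11 ∣ 2), zero_add]
    rcases hm11 with rfl | rfl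
    · rw [Nat.Prime.factorization_self (by norm_num), pow_one]
    · rw [show 121 = 11 ^ 2 by norm_num, Nat.Prime.factorization_pow (by norm_num), Finsupp.single_eq_same]
  have hSi : (S : Subgroup CA).index = 2 := by
    have h := (S : Subgroup CA).card_mul_index
    rw [hS, hm, mul_comm 2 m] at h
    exact Nat.eq_of_mul_eq_mul_left (by omega) h
  haveI hSn : (S : Subgroup CA).Normal := Subgroup.normal_of_index_eq_two hSi
  have hScomm : ∀ x ∈ (S : Subgroup CA), ∀ y ∈ (S : Subgroup CA), x * y = y * x := by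
    intro x hx y hy
    rcases hm11 with rfl | rfl
    · haveI : IsCyclic (S : Subgroup CA) := isCyclic_of_prime_card hS
      exact congrArg Subtype.val ((IsCyclic.commGroup (α := (S : Subgroup CA))).mul_comm ⟨x, hx⟩ ⟨y, hy⟩)
    · exact congrArg Subtype.val (IsPGroup.commutative_of_card_eq_prime_sq (p := 11) (G := (S : Subgroup CA))
        (by rw [hS]; norm_num) ⟨x, hx⟩ ⟨y, hy⟩)
  set O : Subgroup G := (S : Subgroup CA).map CA.subtype
  have hO : ∀ x, x ∈ O ↔ x ∈ CA ∧ x ^ 121 = 1 := by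
    intro x
    constructor
    · rintro ⟨y, hy, rfl⟩
      refine ⟨y.2, ?_⟩
      have h : (⟨y, hy⟩ : (S : Subgroup CA)) ^ 121 = 1 := orderOf_dvd_iff_pow_eq_one.1
        ((_root_.orderOf_dvd_natCard _).trans (by rw [hS]; rcases hm11 with rfl | rfl <;> norm_num))
      exact congrArg (fun q : (S : Subgroup CA) => ((q : CA) : G)) h
    · rintro ⟨hx, hx121⟩
      refine ⟨⟨x, hx⟩, ?_, rfl⟩
      rw [SetLike.mem_coe]
      rw [← QuotientGroup.eq_one_iff, ← orderOf_eq_one_iff]
      refine Nat.eq_one_of_dvd_coprimes (b := 121) (k := orderOf (_ : CA ⧸ (S : Subgroup CA))) (by norm_num : Nat.Coprime 2 121) ?_ ?_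
      · rw [← hSi, index_eq_card]; exact _root_.orderOf_dvd_natCard _
      · refine orderOf_dvd_of_pow_eq_one ?_
        rw [← QuotientGroup.mk_pow, show (⟨x, hx⟩ : CA) ^ 121 = 1 from Subtype.ext hx121, QuotientGroup.mk_one]
  have hOc : ∀ x ∈ O, ∀ y ∈ O, x * y = y * x := by
    rintro _ ⟨x, hx, rfl⟩ _ ⟨y, hy, rfl⟩
    rw [← map_mul, ← map_mul, hScomm x hx y hy]
  have haO : a ∈ O := (hO a).2 ⟨haC, orderOf_dvd_iff_pow_eq_one.1 (by rw [ha]; norm_num)⟩
  have hvi : v⁻¹ = v := inv_eq_of_mul_eq_one_right hv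
  have hwi : w⁻¹ = w := inv_eq_of_mul_eq_one_right hw
  set y := t * v
  have hyO : y ∈ O := by
    obtain ⟨T⟩ := (inferInstance : Nonempty (Sylow 2 CA))
    have hT : Nat.card (T : Subgroup CA) = 2 := by
      rw [T.card_eq_multiplicity, hm, Nat.factorization_mul (by norm_num) (by omega), Finsupp.add_apply,
        Nat.Prime.factorization_self Nat.prime_two,
        Nat.factorization_eq_zero_of_not_dvd (by rcases hm11 with rfl | rfl <;> norm_num), add_zero, pow_one]
    have hmem : ∀ (u : G) (hu : u ∈ CA), u * u = 1 → u ≠ 1 → (⟨u, hu⟩ : CA) ∉ (S : Subgroup CA) :=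
      fun u hu h2 h1 h => by
        have hd := _root_.orderOf_dvd_natCard (⟨⟨u, hu⟩, h⟩ : (S : Subgroup CA))
        rw [Subgroup.orderOf_mk, Subgroup.orderOf_mk, orderOf_eq_prime (by rw [pow_two]; exact h2) h1, hS] at hd
        rcases hm11 with rfl | rfl <;> norm_num at hd
    exact ⟨⟨t, htC⟩ * ⟨v, hvC⟩, (mul_mem_iff_of_index_two hSi).2
      (iff_of_false (hmem t htC ht ht1) (hmem v hvC hv hv1)), rfl⟩
  let B : Subgroup G :=
    { carrier := {x | x ∈ O ∧ v * x * v⁻¹ = x⁻¹}
      one_mem' := ⟨one_mem _, by simp⟩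
      mul_mem' := fun {x x'} hx hx' => ⟨mul_mem hx.1 hx'.1, by
        rw [← _root_.conj_mul, hx.2, hx'.2, ← mul_inv_rev, hOc x hx.1 x' hx'.1]⟩
      inv_mem' := fun {x} hx => ⟨inv_mem hx.1, by rw [← conj_inv, hx.2]⟩ }
  have hyB : y ∈ B := ⟨hyO, by
    rw [hvi]
    show v * (t * v) * v = (t * v)⁻¹
    rw [mul_inv_rev, hvi, inv_eq_of_mul_eq_one_right ht]
    calc v * (t * v) * v = v * t * (v * v) := by group
      _ = v * t := by rw [hv, mul_one]⟩
  have hwB : ∀ x ∈ B, w * x * w⁻¹ ∈ B := by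
    rintro x ⟨hxO, hx⟩
    obtain ⟨hxC, hx121⟩ := (hO x).1 hxO
    have hwinv : w * a⁻¹ * w⁻¹ = a := by rw [← conj_inv, hwi, hwa, inv_inv]
    refine ⟨(hO _).2 ⟨mem_centralizer_singleton_iff.2 ?_, by rw [conj_pow, hx121]; group⟩, ?_⟩
    · have hc : x * a⁻¹ = a⁻¹ * x := ((show Commute x a from mem_centralizer_singleton_iff.1 hxC).inv_right).eq
      calc w * x * w⁻¹ * a = w * x * w⁻¹ * (w * a⁻¹ * w⁻¹) := by rw [hwinv]
        _ = w * (x * a⁻¹) * w⁻¹ := by group
        _ = w * (a⁻¹ * x) * w⁻¹ := by rw [hc]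
        _ = (w * a⁻¹ * w⁻¹) * (w * x * w⁻¹) := by group
        _ = a * (w * x * w⁻¹) := by rw [hwinv]
    · calc v * (w * x * w⁻¹) * v⁻¹ = (v * w) * x * (v * w)⁻¹ := by group
        _ = w * (v * x * v⁻¹) * w⁻¹ := by rw [← hwv]; group
        _ = (w * x * w⁻¹)⁻¹ := by rw [hx, conj_inv]
  have hBcard : Nat.card B ≤ 11 := by
    have hBO : B ≤ O := fun x hx => hx.1
    have hOcard : Nat.card O = m := by
      rw [Nat.card_congr ((S : Subgroup CA).equivMapOfInjective _ CA.subtype_injective).toEquiv.symm, hS]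
    have haB : a ∉ B := fun h => by
      have h2 := h.2
      rw [hva, mul_inv_cancel_right] at h2
      have := orderOf_dvd_of_pow_eq_one (show a ^ 2 = 1 by rw [pow_two]; nth_rw 1 [h2]; exact inv_mul_cancel _)
      rw [ha] at this; norm_num at this
    have hd : Nat.card B ∣ 11 ^ 2 := (hOcard ▸ card_dvd_of_le hBO).trans
      (by rcases hm11 with rfl | rfl <;> norm_num)
    obtain ⟨i, hi, e⟩ := (Nat.dvd_prime_pow (by norm_num : Nat.Prime 11)).1 hd
    interval_cases i
    · rw [e]; norm_num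
    · rw [e]; norm_num
    · exfalso
      have : B = O := Subgroup.eq_of_le_of_card_ge hBO (by rw [e, hOcard]; rcases hm11 with rfl | rfl <;> norm_num)
      exact haB (this ▸ haO)
  have hty : t = y * v := by show t = t * v * v; rw [mul_assoc, hv, mul_one]
  by_cases hy1 : y = 1
  · left; rw [hty, hy1, one_mul, hwv]
  have hy11 : orderOf y = 11 := by
    obtain ⟨i, hi, e⟩ := (Nat.dvd_prime_pow (by norm_num : Nat.Prime 11)).1
      (show orderOf y ∣ 11 ^ 2 from orderOf_dvd_of_pow_eq_one ((hO y).1 hyO).2)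
    have hle := (Nat.le_of_dvd Nat.card_pos (_root_.orderOf_dvd_natCard (⟨y, hyB⟩ : B))).trans hBcard
    rw [Subgroup.orderOf_mk, e] at hle
    interval_cases i
    · exact absurd (orderOf_eq_one_iff.1 (e.trans (pow_zero _))) hy1
    · exact e.trans (pow_one _)
    · norm_num at hle
  have hz : zpowers y = B :=
    Subgroup.eq_of_le_of_card_ge (zpowers_le.2 hyB) (by rw [Nat.card_zpowers, hy11]; exact hBcard)
  obtain ⟨j, hj⟩ := mem_zpowers_iff.1 (hz.ge (hwB y hyB))
  have hjj : y ^ (j * j) = y ^ (1 : ℤ) := by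
    rw [zpow_mul, hj, conj_zpow, hj, zpow_one, hwi]
    calc w * (w * y * w) * w = (w * w) * y * (w * w) := by group
      _ = y := by rw [hw, one_mul, mul_one]
  rw [← orderOf_dvd_sub_iff_zpow_eq_zpow, hy11, show j * j - 1 = (j - 1) * (j + 1) by ring] at hjj
  rcases (Nat.prime_iff_prime_int.mp (by norm_num : Nat.Prime 11)).dvd_mul.mp hjj with h | h
  · left
    have hwy : w * y * w⁻¹ = y := by
      rw [← hj]; nth_rw 2 [← zpow_one y]
      rw [← orderOf_dvd_sub_iff_zpow_eq_zpow, hy11]; exact h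
    rw [hty, ← mul_assoc, mul_inv_eq_iff_eq_mul.1 hwy, mul_assoc, hwv, ← mul_assoc]
  · right
    have hwy : w * y * w⁻¹ = y⁻¹ := by
      rw [← hj, ← zpow_neg_one, ← orderOf_dvd_sub_iff_zpow_eq_zpow, hy11, sub_neg_eq_add]; exact h
    have hvy : v * y⁻¹ * v⁻¹ = y := by rw [← conj_inv, hyB.2, inv_inv]
    rw [hty, ← mul_assoc, mul_assoc v w, mul_inv_eq_iff_eq_mul.1 hwy, ← mul_assoc v,
      mul_inv_eq_iff_eq_mul.1 hvy, mul_assoc (y * v), hwv]

variable (C : Conf z V) (L : Labels z V φ d)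

include C L

/-- **The subgroup isomorphic to the projective general linear group.** -/
theorem main (ι : M24 →* G) (hιN : ∀ g, ι g ∈ normalizer (V : Set G))
    (hφ : ∀ g, φ ⟨ι g, hιN g⟩ = g)
    (h23 : ∀ s : G, orderOf s = 23 → centralizer (zpowers s : Set G) = zpowers s ∧
      Nat.card (normalizer (zpowers s : Set G)) = 23 * 22)
    (h11 : Nat.card (centralizer ({ι dbl24} : Set G)) ∣ 242) :
    ∃ K : Subgroup G, Nonempty (↥K ≃* GL (Fin 2) (ZMod 23) ⧸ Subgroup.center (GL (Fin 2) (ZMod 23))) := by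
  have hι : Function.Injective ι := fun g h e => by
    rw [← hφ g, ← hφ h]; exact congrArg φ (Subtype.ext e)
  have heq : ∀ (g : M24) p q, d ((g : Equiv.Perm GolayPt) p) ((g : Equiv.Perm GolayPt) q) = ι g * d p q * (ι g)⁻¹ :=
    fun g p q => by
      have h := L.equiv ⟨ι g, hιN g⟩ p q
      rwa [hφ] at h
  let inc : lineGroup →* M24 := Subgroup.inclusion lineGroup_le
  set a := ι dbl24
  set s := ι trans24
  set W := ι inv24
  set v := d none (some 0)
  have hv : v ∈ nS z V := L.mem _ _ (by simp)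
  have hvsq : v * v = 1 := C.sq v (L.memV C _ _)
  have hv1 : v ≠ 1 := (mem_nS.1 hv).2.1
  have hva : v * a = a * v := by
    have h := heq dbl24 none (some 0)
    rw [show ((dbl24 : M24) : Equiv.Perm GolayPt) none = none from rfl,
      show ((dbl24 : M24) : Equiv.Perm GolayPt) (some 0) = some 0 from by decide +kernel] at h
    exact (mul_inv_eq_iff_eq_mul.1 h.symm).symm
  have hWv : W * v = v * W := by
    have h := heq inv24 none (some 0)
    rw [show ((inv24 : M24) : Equiv.Perm GolayPt) none = some 0 from rfl,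
      show ((inv24 : M24) : Equiv.Perm GolayPt) (some 0) = none from by decide +kernel, L.symm] at h
    exact mul_inv_eq_iff_eq_mul.1 h.symm
  have hW : W * W = 1 := by rw [← map_mul, inv24_sq, map_one]
  have hWa : W * a * W = a⁻¹ := by
    rw [← map_inv, ← inv24_dbl, map_mul, map_mul, map_inv]
    congr 1
    exact (inv_eq_of_mul_eq_one_right hW).symm
  have hs : orderOf s = 23 := by rw [orderOf_injective ι hι, orderOf_trans24]
  have ha : orderOf a = 11 := by rw [orderOf_injective ι hι, orderOf_dbl24]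
  obtain ⟨t, ht, ht1, hts, hta⟩ := exists_outer (a := a) hs
    (by rw [← map_inv, ← map_mul, ← map_mul, dbl24_trans24, map_pow]) (h23 s hs).1 (h23 s hs).2
  have hti : t⁻¹ = t := inv_eq_of_mul_eq_one_right ht
  rcases commutes_twist ha h11 hva hvsq hv1 (mul_inv_eq_iff_eq_mul.1 hta) ht ht1 hW hWv hWa
    with hc | hc
  · refine exists_pgl (ι.comp inc) (hι.comp (Subgroup.inclusion_injective _)) t ht ?_ ?_ ?_
      (not_in_range _ (hι.comp (Subgroup.inclusion_injective _)) t hts hta)
    · nth_rw 2 [← hti]; exact hts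
    · nth_rw 2 [← hti]; exact hta
    · show t * W * t = W
      rw [← hc, mul_assoc, ht, mul_one]
  · -- the twisted complement
    let κ : M24 →* G := MonoidHom.mk' (fun g => d ((g : Equiv.Perm GolayPt) none) none * ι g) fun g h => by
      rw [Subgroup.coe_mul, Equiv.Perm.mul_apply, map_mul, ← L.tri _ ((g : Equiv.Perm GolayPt) none) none, heq,
        C.comm (show ι g * d ((h : Equiv.Perm GolayPt) none) none * (ι g)⁻¹ ∈ V by
          rw [← heq]; exact L.memV C _ _) (L.memV C _ _)]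
      group
    have hκ : ∀ g : M24, ∀ hm : κ g ∈ normalizer (V : Set G), φ ⟨κ g, hm⟩ = g := fun g hm => by
      rw [show (⟨κ g, hm⟩ : normalizer (V : Set G)) =
        ⟨d ((g : Equiv.Perm GolayPt) none) none, le_normalizer (L.memV C _ _)⟩ * ⟨ι g, hιN g⟩ from rfl, map_mul, hφ,
        (L.ker _).2 (L.memV C _ _), one_mul]
    have hκN : ∀ g, κ g ∈ normalizer (V : Set G) := fun g => mul_mem (le_normalizer (L.memV C _ _)) (hιN g)
    have hκi : Function.Injective κ := fun g h e => by
      rw [← hκ g (hκN g), ← hκ h (hκN h)]; exact congrArg φ (Subtype.ext e)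
    have e1 : κ trans24 = s := by
      show d none none * s = s
      rw [L.self, one_mul]
    have e2 : κ dbl24 = a := by
      show d none none * a = a
      rw [L.self, one_mul]
    have e3 : κ inv24 = v * W := by
      show d (some 0) none * W = v * W
      rw [L.symm]
    have hts' : t * κ trans24 * t⁻¹ = (κ trans24)⁻¹ := by rw [e1]; exact hts
    have hta' : t * κ dbl24 * t⁻¹ = κ dbl24 := by rw [e2]; exact hta
    refine exists_pgl (κ.comp inc) (hκi.comp (Subgroup.inclusion_injective _)) t ht ?_ ?_ ?_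
      (not_in_range _ (hκi.comp (Subgroup.inclusion_injective _)) t hts' hta')
    · nth_rw 2 [← hti]; exact hts'
    · nth_rw 2 [← hti]; exact hta'
    · show t * κ inv24 * t = κ inv24
      rw [e3, ← hc, mul_assoc, ht, mul_one]

end CfsgLib.J4PGL
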